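import Groth.Agent.L09.Artin.Sat.Link
import Groth.Agent.L19.SmoothLocus
import Groth.Agent.L23.FppfSmooth
import Groth.Agent.L24.Boot.SliceRel

/-!
# The smooth locus of the space of lifts is saturated over the base
-/

set_option autoImplicit false
set_option backward.isDefEq.respectTransparency false
set_option backward.isDefEq.respectTransparency.types false

universe u

open CategoryTheory CategoryTheory.Limits AlgebraicGeometry Opposite AlgSp

noncomputable section

namespace Groth.L09.Artin.Cand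

open Groth.L05.Point (Nhd)
open Groth.L23.UHPush (isPullback_of_yon)

theorem nhd_smooth_comp_of_etale {X Y Z : Scheme.{u}} (j : X ⟶ Y) [Etale j] (g : Y ⟶ Z) {x : X}
    (h : Nhd @Smooth g (j x)) : Nhd @Smooth (j ≫ g) x := by
  obtain ⟨V, hV, hg⟩ := h
  refine ⟨j ⁻¹ᵁ V, hV, ?_⟩
  have e : (j ⁻¹ᵁ V).ι ≫ j ≫ g = (j ∣_ V) ≫ V.ι ≫ g := by rw [morphismRestrict_ι_assoc]
  rw [e]
  infer_instance

theorem nhd_smooth_of_etale_comp {X Y Z : Scheme.{u}} (j : X ⟶ Y) [Etale j] (g : Y ⟶ Z) {x : X}
    (h : Nhd @Smooth (j ≫ g) x) : Nhd @Smooth g (j x) := by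
  obtain ⟨W, hW, hg⟩ := h
  let V : Y.Opens := ⟨j '' (W : Set X), j.isOpenMap _ W.2⟩
  refine ⟨V, ⟨x, hW, rfl⟩, ?_⟩
  let c : W.toScheme ⟶ V.toScheme := IsOpenImmersion.lift V.ι (W.ι ≫ j) (by
    rintro _ ⟨w, rfl⟩
    rw [Scheme.Opens.range_ι]
    exact ⟨w.1, w.2, rfl⟩)
  have hc : c ≫ V.ι = W.ι ≫ j := IsOpenImmersion.lift_fac _ _ _
  have : Etale c := by
    have : Etale (c ≫ V.ι) := by rw [hc]; infer_instance
    exact Etale.of_comp c V.ι
  have : Surjective c := ⟨fun v => by
    obtain ⟨w, hw, e⟩ := v.2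
    refine ⟨⟨w, hw⟩, V.ι.isEmbedding.injective ?_⟩
    rw [← Scheme.Hom.comp_apply, hc]
    exact e⟩
  refine Groth.L23.FppfSmooth.smooth_of_fppf_comp c (V.ι ≫ g) ?_
  rw [← Category.assoc, hc, Category.assoc]
  exact hg

variable {S : Scheme.{u}} {𝒳 : AlgSt.Cat S} {U : Over S} {f : FibCat.overCat U ⥤ᵇ 𝒳} (hA : Atl f)
  {ξ : 𝒳.obj} {E : Over S} (hR : 𝒳.p.obj ξ = E) {P0 : Over S} (π : (yon S).obj P0 ⟶ KSp hA hR)

/-- The smooth locus of the projection of the space of lifts to the atlas is saturated over the base. -/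
theorem smooth_saturated (hπ : RepWith @Etale π) {y y' : P0.left}
    (he : (ptEquiv hA hR π).x.left y = (ptEquiv hA hR π).x.left y')
    (h : Nhd @Smooth (ptEquiv hA hR π).u.left y') [LocallyOfFinitePresentation (ptEquiv hA hR π).u.left] :
    Nhd @Smooth (ptEquiv hA hR π).u.left y := by
  let hU : 𝒳.p.obj (f.obj (Over.mk (𝟙 U))) = U := f.w_obj _
  obtain ⟨X0, p0, hp, hps⟩ := (isAlgSpace_KSp hA hU).atlas
  let p := ptEquiv hA hR π
  let q0 := ptEquiv hA hU p0
  have hx0 : Flat q0.x.left :=
    (flp_xK hA hU).1 p0 (𝟙 _) q0.x hp (Groth.L23.repWith_of_isIso _) (by rw [Category.comp_id]; exact comp_xK hA hU p0)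
  let R1 : Over S := pullback p.x p.x
  let r1 : R1 ⟶ P0 := pullback.fst p.x p.x
  let r2 : R1 ⟶ P0 := pullback.snd p.x p.x
  obtain ⟨q, hq⟩ := Link.exists_q hA.grpd (p.restr r1) (p.restr r2)
    (show r2 ≫ p.x = r1 ≫ p.x from pullback.condition.symm)
  let v0 : (yon S).obj R1 ⟶ KSp hA hU := (ptEquiv hA hU).symm q
  obtain ⟨D, dr, dz, sD⟩ : ∃ (D : Over S) (dr : D ⟶ R1) (dz : D ⟶ X0),
      IsPullback ((yon S).map dz) ((yon S).map dr) p0 v0 := by
    obtain ⟨D, dz, dr, sq⟩ := Groth.L23.exists_isPullback_of_representable hp.1 v0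
    exact ⟨D, dr, dz, sq⟩
  have hdr : Surjective dr.left := Groth.L23.repWith_prop hps sD
  have hD : q0.restr dz = q.restr dr := by
    rw [← ptEquiv_comp hA hU, sD.w, ptEquiv_comp hA hU, Equiv.apply_symm_apply]
  have hlink : Link (p.restr (dr ≫ r1)) (p.restr (dr ≫ r2)) (q0.restr dz) := by
    rw [Pt.restr_comp, Pt.restr_comp, hD]
    exact hq.restr hA.grpd dr
  -- the point with the unknown smoothness
  let B : Over S := pullback p.u q0.x
  let bw : B ⟶ P0 := pullback.fst p.u q0.x
  let bz : B ⟶ X0 := pullback.snd p.u q0.x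
  obtain ⟨pB, hB⟩ := Link.exists_right hA.grpd (p.restr bw) (q0.restr bz)
    (show bz ≫ q0.x = bw ≫ p.u from pullback.condition.symm)
  let jB : D ⟶ B := pullback.lift (dr ≫ r1) dz hlink.eq_qx.symm
  have sB : IsPullback ((yon S).map (dr ≫ r2)) ((yon S).map jB) π ((ptEquiv hA hR).symm pB) := by
    refine isPullback_of_yon ?_ (fun Z k k' h₁ h₂ => ?_) fun Z a c hac => ?_
    · refine (ptEquiv hA hR).injective ?_
      rw [ptEquiv_comp, ptEquiv_comp, Equiv.apply_symm_apply]
      refine Link.unique_right hA.grpd hlink ?_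
      have h1 := hB.restr hA.grpd jB
      rwa [← Pt.restr_comp, ← Pt.restr_comp, pullback.lift_fst, pullback.lift_snd] at h1
    · obtain ⟨k, rfl⟩ := (yon S).map_surjective k
      obtain ⟨k', rfl⟩ := (yon S).map_surjective k'
      rw [← Functor.map_comp, ← Functor.map_comp] at h₁ h₂
      have h₁ := (yon S).map_injective h₁
      have h₂ := (yon S).map_injective h₂
      have h3 : k ≫ dr ≫ r1 = k' ≫ dr ≫ r1 := by
        have := h₂ =≫ bw
        simpa [jB, bw, Category.assoc] using this
      have h4 : k ≫ dz = k' ≫ dz := by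
        have := h₂ =≫ bz
        simpa [jB, bz, Category.assoc] using this
      have h5 : k ≫ dr = k' ≫ dr := pullback.hom_ext (by simpa using h3) (by simpa using h₁)
      refine sD.hom_ext ?_ ?_
      · rw [← Functor.map_comp, ← Functor.map_comp, h4]
      · rw [← Functor.map_comp, ← Functor.map_comp, h5]
    · obtain ⟨a, rfl⟩ := (yon S).map_surjective a
      obtain ⟨c, rfl⟩ := (yon S).map_surjective c
      have hac' := congrArg (ptEquiv hA hR) hac
      rw [ptEquiv_comp, ptEquiv_comp, Equiv.apply_symm_apply] at hac'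
      have hc := hB.restr hA.grpd c
      rw [← Pt.restr_comp, ← Pt.restr_comp, ← hac'] at hc
      let r : Z ⟶ R1 := pullback.lift (c ≫ bw) a hc.eq_x.symm
      have hr : q0.restr (c ≫ bz) = q.restr r := by
        refine Link.unique_q hA.grpd hc ?_
        have h1 := hq.restr hA.grpd r
        rwa [← Pt.restr_comp, ← Pt.restr_comp, pullback.lift_fst, pullback.lift_snd] at h1
      obtain ⟨d, hd⟩ := (yon S).map_surjective (sD.lift ((yon S).map (c ≫ bz)) ((yon S).map r) (by
        refine (ptEquiv hA hU).injective ?_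
        rw [ptEquiv_comp, ptEquiv_comp, Equiv.apply_symm_apply]
        exact hr))
      have hdz : d ≫ dz = c ≫ bz := (yon S).map_injective (by rw [Functor.map_comp, hd, sD.lift_fst])
      have hdr' : d ≫ dr = r := (yon S).map_injective (by rw [Functor.map_comp, hd, sD.lift_snd])
      refine ⟨(yon S).map d, ?_, ?_⟩
      · rw [← Functor.map_comp, reassoc_of% hdr', pullback.lift_snd]
      · rw [← Functor.map_comp]
        congr 1
        apply pullback.hom_ext
        · rw [Category.assoc, pullback.lift_fst, reassoc_of% hdr', pullback.lift_fst]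
        · rw [Category.assoc, pullback.lift_snd, hdz]
  have hjB : Etale jB.left := Groth.L23.repWith_prop hπ sB
  -- the point with the known smoothness
  let A : Over S := pullback p.u q0.u
  let aw : A ⟶ P0 := pullback.fst p.u q0.u
  let az : A ⟶ X0 := pullback.snd p.u q0.u
  obtain ⟨pA, hpA⟩ := Link.exists_left hA.grpd (p.restr aw) (q0.restr az)
    (show az ≫ q0.u = aw ≫ p.u from pullback.condition.symm)
  let jA : D ⟶ A := pullback.lift (dr ≫ r2) dz hlink.eq_u.symm
  have sA : IsPullback ((yon S).map (dr ≫ r1)) ((yon S).map jA) π ((ptEquiv hA hR).symm pA) := by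
    refine isPullback_of_yon ?_ (fun Z k k' h₁ h₂ => ?_) fun Z a c hac => ?_
    · refine (ptEquiv hA hR).injective ?_
      rw [ptEquiv_comp, ptEquiv_comp, Equiv.apply_symm_apply]
      refine Link.unique_left hA.grpd hlink ?_
      have h1 := hpA.restr hA.grpd jA
      rwa [← Pt.restr_comp, ← Pt.restr_comp, pullback.lift_fst, pullback.lift_snd] at h1
    · obtain ⟨k, rfl⟩ := (yon S).map_surjective k
      obtain ⟨k', rfl⟩ := (yon S).map_surjective k'
      rw [← Functor.map_comp, ← Functor.map_comp] at h₁ h₂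
      have h₁ := (yon S).map_injective h₁
      have h₂ := (yon S).map_injective h₂
      have h3 : k ≫ dr ≫ r2 = k' ≫ dr ≫ r2 := by
        have := h₂ =≫ aw
        simpa [jA, aw, Category.assoc] using this
      have h4 : k ≫ dz = k' ≫ dz := by
        have := h₂ =≫ az
        simpa [jA, az, Category.assoc] using this
      have h5 : k ≫ dr = k' ≫ dr := pullback.hom_ext (by simpa using h₁) (by simpa using h3)
      refine sD.hom_ext ?_ ?_
      · rw [← Functor.map_comp, ← Functor.map_comp, h4]
      · rw [← Functor.map_comp, ← Functor.map_comp, h5]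
    · obtain ⟨a, rfl⟩ := (yon S).map_surjective a
      obtain ⟨c, rfl⟩ := (yon S).map_surjective c
      have hac' := congrArg (ptEquiv hA hR) hac
      rw [ptEquiv_comp, ptEquiv_comp, Equiv.apply_symm_apply] at hac'
      have hc := hpA.restr hA.grpd c
      rw [← Pt.restr_comp, ← Pt.restr_comp, ← hac'] at hc
      let r : Z ⟶ R1 := pullback.lift a (c ≫ aw) hc.eq_x.symm
      have hr : q0.restr (c ≫ az) = q.restr r := by
        refine Link.unique_q hA.grpd hc ?_
        have h1 := hq.restr hA.grpd r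
        rwa [← Pt.restr_comp, ← Pt.restr_comp, pullback.lift_fst, pullback.lift_snd] at h1
      obtain ⟨d, hd⟩ := (yon S).map_surjective (sD.lift ((yon S).map (c ≫ az)) ((yon S).map r) (by
        refine (ptEquiv hA hU).injective ?_
        rw [ptEquiv_comp, ptEquiv_comp, Equiv.apply_symm_apply]
        exact hr))
      have hdz : d ≫ dz = c ≫ az := (yon S).map_injective (by rw [Functor.map_comp, hd, sD.lift_fst])
      have hdr' : d ≫ dr = r := (yon S).map_injective (by rw [Functor.map_comp, hd, sD.lift_snd])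
      refine ⟨(yon S).map d, ?_, ?_⟩
      · rw [← Functor.map_comp, reassoc_of% hdr', pullback.lift_fst]
      · rw [← Functor.map_comp]
        congr 1
        apply pullback.hom_ext
        · rw [Category.assoc, pullback.lift_fst, reassoc_of% hdr', pullback.lift_snd]
        · rw [Category.assoc, pullback.lift_snd, hdz]
  have hjA : Etale jA.left := Groth.L23.repWith_prop hπ sA
  -- the chosen point
  obtain ⟨m, hm1, hm2⟩ := Groth.L24.Boot.exists_point
    ((IsPullback.of_hasPullback p.x p.x).map (Over.forget S)) y y' he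
  obtain ⟨d, hd⟩ := hdr.surj m
  have sqA := (IsPullback.of_hasPullback p.u q0.u).map (Over.forget S)
  have sqB := (IsPullback.of_hasPullback p.u q0.x).map (Over.forget S)
  have e1 : aw.left (jA.left d) = y' := by
    rw [← Scheme.Hom.comp_apply, ← Over.comp_left, show jA ≫ aw = dr ≫ r2 from pullback.lift_fst _ _ _,
      Over.comp_left, Scheme.Hom.comp_apply, hd]
    exact hm2
  have e2 : bw.left (jB.left d) = y := by
    rw [← Scheme.Hom.comp_apply, ← Over.comp_left, show jB ≫ bw = dr ≫ r1 from pullback.lift_fst _ _ _,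
      Over.comp_left, Scheme.Hom.comp_apply, hd]
    exact hm1
  have hAz : Nhd @Smooth az.left (jA.left d) :=
    Groth.L05.Point.nhd_of_isPullback (P := @Smooth) sqA (jA.left d) (show Nhd @Smooth p.u.left (aw.left (jA.left d)) from e1.symm ▸ h)
  have hdz : Nhd @Smooth (jB.left ≫ bz.left) d := by
    rw [← Over.comp_left, show jB ≫ bz = jA ≫ az from (pullback.lift_snd _ _ _).trans (pullback.lift_snd _ _ _).symm,
      Over.comp_left]
    exact nhd_smooth_comp_of_etale jA.left az.left hAz
  have hBz : Nhd @Smooth bz.left (jB.left d) := nhd_smooth_of_etale_comp jB.left bz.left hdz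
  have : LocallyOfFinitePresentation bz.left :=
    MorphismProperty.of_isPullback (P := @LocallyOfFinitePresentation) sqB ‹_›
  have : LocallyOfFinitePresentation ((Over.forget S).map bz) := ‹_›
  have hres := (Groth.L19.SmoothLocus.baseChange_iff p.u.left sqB (Or.inr hx0) (jB.left d)).1 hBz
  exact e2 ▸ hres

end Groth.L09.Artin.Cand
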