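import Groth.Agent.L09.Artin.Cand.KSp

/-!
# Links of two lifts with the same base point

Two lifts of an object with the same base point differ by a lift of the tautological object over the atlas.
-/

set_option autoImplicit false
set_option backward.isDefEq.respectTransparency false
set_option backward.isDefEq.respectTransparency.types false

universe u

open CategoryTheory CategoryTheory.Limits AlgebraicGeometry Opposite AlgSp

noncomputable section

namespace Groth.L09.Artin.Cand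

variable {S : Scheme.{u}} {𝒳 : AlgSt.Cat S} {U : Over S} {f : FibCat.overCat U ⥤ᵇ 𝒳}
  {ξ : 𝒳.obj} {R T T' : Over S}

variable (f) in
/-- The arrow to the tautological object from the value at a map. -/
abbrev tArrow (v : T ⟶ U) : f.obj (Over.mk v) ⟶ f.obj (Over.mk (𝟙 U)) :=
  f.map (Over.homMk v (Category.comp_id v) : Over.mk v ⟶ Over.mk (𝟙 U))

instance tArrow_lift (v : T ⟶ U) : 𝒳.p.IsHomLift v (tArrow f v) :=
  have : (FibCat.overCat U).p.IsHomLift v (Over.homMk v (Category.comp_id v) : Over.mk v ⟶ Over.mk (𝟙 U)) :=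
    IsHomLift.map (FibCat.overCat U).p (Over.homMk v (Category.comp_id v) : Over.mk v ⟶ Over.mk (𝟙 U))
  inferInstance

/-- `q` is the difference of `p'` and `p`. -/
def Link (p p' : Pt f ξ R T) (q : Pt f (f.obj (Over.mk (𝟙 U))) U T) : Prop :=
  ∃ s : Pt f (f.obj (Over.mk p.u)) T T, s.x = 𝟙 T ∧ s.push p.m p.x = p' ∧ s.push (tArrow f p.u) p.u = q

namespace Link

variable {p p' : Pt f ξ R T} {q : Pt f (f.obj (Over.mk (𝟙 U))) U T}

theorem eq_x (h : Link p p' q) : p'.x = p.x := by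
  obtain ⟨s, hs, rfl, -⟩ := h
  rw [Pt.push_x, hs, Category.id_comp]

theorem eq_u (h : Link p p' q) : q.u = p'.u := by
  obtain ⟨s, -, rfl, rfl⟩ := h
  rfl

theorem eq_qx (h : Link p p' q) : q.x = p.u := by
  obtain ⟨s, hs, -, rfl⟩ := h
  rw [Pt.push_x, hs, Category.id_comp]

variable (h𝒳 : FibCat.IsFibGrpd 𝒳.p)
include h𝒳

theorem exists_q (p p' : Pt f ξ R T) (hx : p'.x = p.x) : ∃ q, Link p p' q := by
  obtain ⟨s, hs, hsp⟩ := Pt.exists_push h𝒳 p.m p.x p' (𝟙 T) ((Category.id_comp _).trans hx.symm)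
  exact ⟨_, s, hs, hsp, rfl⟩

theorem exists_right (p : Pt f ξ R T) (q : Pt f (f.obj (Over.mk (𝟙 U))) U T) (hu : q.x = p.u) :
    ∃ p', Link p p' q := by
  obtain ⟨s, hs, hsp⟩ := Pt.exists_push h𝒳 (tArrow f p.u) p.u q (𝟙 T) ((Category.id_comp _).trans hu.symm)
  exact ⟨_, s, hs, rfl, hsp⟩

theorem unique_q {q' : Pt f (f.obj (Over.mk (𝟙 U))) U T} (h : Link p p' q) (h' : Link p p' q') : q = q' := by
  obtain ⟨s, hs, hsp, rfl⟩ := h
  obtain ⟨s', hs', hsp', rfl⟩ := h'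
  rw [Pt.push_injective h𝒳 p.m p.x (hs.trans hs'.symm) (hsp.trans hsp'.symm)]

theorem unique_right {p'' : Pt f ξ R T} (h : Link p p' q) (h' : Link p p'' q) : p' = p'' := by
  obtain ⟨s, hs, rfl, hq⟩ := h
  obtain ⟨s', hs', rfl, hq'⟩ := h'
  rw [Pt.push_injective h𝒳 (tArrow f p.u) p.u (hs.trans hs'.symm) (hq.trans hq'.symm)]

theorem exists_left (p' : Pt f ξ R T) (q : Pt f (f.obj (Over.mk (𝟙 U))) U T) (hu : q.u = p'.u) :
    ∃ p, Link p p' q := by
  obtain ⟨s, hs, hsq⟩ := Pt.exists_push h𝒳 (tArrow f q.x) q.x q (𝟙 T) (Category.id_comp _)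
  obtain ⟨x, v, m, hm⟩ := s
  change x = 𝟙 T at hs
  subst hs
  have hv : v = p'.u := (congrArg Pt.u hsq).trans hu
  subst hv
  have := Fib.isIso_of_isFibGrpd 𝒳.p h𝒳 (𝟙 T) m
  have hinv : 𝒳.p.IsHomLift (𝟙 T) (inv m) :=
    haveI : 𝒳.p.IsHomLift (𝟙 T) (asIso m).hom := hm
    IsHomLift.lift_id_inv 𝒳.p T (asIso m)
  refine ⟨⟨p'.x, q.x, inv m ≫ p'.m, IsHomLift.comp_lift_id_left' 𝒳.p T _ p'.x p'.m⟩,
    ⟨𝟙 T, p'.u, m, hm⟩, rfl, Pt.ext (Category.id_comp _) rfl ?_, hsq⟩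
  rw [f_map_oeq_refl, Category.id_comp, Pt.push_m]
  exact IsIso.hom_inv_id_assoc m p'.m

theorem unique_left {p₂ : Pt f ξ R T} (h : Link p p' q) (h' : Link p₂ p' q) : p = p₂ := by
  have hu : p.u = p₂.u := h.eq_qx.symm.trans h'.eq_qx
  obtain ⟨x, v, m, hl⟩ := p
  obtain ⟨x₂, v₂, m₂, hl₂⟩ := p₂
  change v = v₂ at hu
  subst hu
  obtain rfl : x = x₂ := h.eq_x.symm.trans h'.eq_x
  obtain ⟨s, hs, hsp, hq⟩ := h
  obtain ⟨s', hs', hsp', hq'⟩ := h'
  obtain rfl : s = s' := Pt.push_injective h𝒳 (tArrow f v) v (hs.trans hs'.symm) (hq.trans hq'.symm)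
  obtain ⟨hu2, hm⟩ := Pt.ext_m (hsp.trans hsp'.symm)
  rw [f_map_oeq_refl, Category.id_comp] at hm
  change s.m ≫ m = s.m ≫ m₂ at hm
  have hsl : 𝒳.p.IsHomLift (𝟙 T) s.m := hs ▸ s.lift
  have := Fib.isIso_of_isFibGrpd 𝒳.p h𝒳 (𝟙 T) s.m
  obtain rfl : m = m₂ := (cancel_epi s.m).1 hm
  rfl

theorem restr (k : T' ⟶ T) (h : Link p p' q) : Link (p.restr k) (p'.restr k) (q.restr k) := by
  obtain ⟨s, hs, rfl, rfl⟩ := h
  have hx : (s.restr k).x = k := by rw [Pt.restr_x, hs]; exact Category.comp_id k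
  obtain ⟨s', hs', hsk⟩ := Pt.exists_push h𝒳 (f.map (om k p.u)) k (s.restr k) (𝟙 T')
    ((Category.id_comp _).trans hx.symm)
  have : 𝒳.p.IsHomLift (k ≫ p.x) (p.restr k).m := (p.restr k).lift
  refine ⟨s', hs', ?_, ?_⟩
  · rw [← Pt.push_restr, ← hsk, Pt.push_comp]
    exact Pt.push_congr rfl _
  · rw [← Pt.push_restr, ← hsk, Pt.push_comp]
    exact Pt.push_congr ((f_map_congr (Category.comp_id _).symm).trans (f_map_comp _ _)) _

end Link

end Groth.L09.Artin.Cand
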